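import Groth.Agent.H06FpqcAmple.Sections
import Groth.Agent.H06RAmple.Descend
import Groth.Agent.H18Descent.Basic
import Groth.Agent.H17.AmpleSep

/-! Ampleness descends along faithfully flat morphisms of affine bases. -/

set_option autoImplicit false
set_option backward.isDefEq.respectTransparency false
set_option linter.style.haveILetI false
noncomputable section
universe u
open CategoryTheory CategoryTheory.Limits AlgebraicGeometry Opposite TopologicalSpace
open Groth.Agent.H11Tilde Groth.Agent.H11Ample Groth.Agent.H10Coh Groth.Agent.H06RAmple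
open scoped TensorProduct

namespace Groth.Agent.H06FpqcAmple

variable {X Y Y' : Scheme.{u}} (f : X ⟶ Y) (g : Y' ⟶ Y)

theorem algebraMap_res {U W : X.Opens} (h : W ≤ U) (a : Γ(Y, ⊤)) :
    r h ((f.appLE ⊤ U fun _ _ => trivial) a) = (f.appLE ⊤ W fun _ _ => trivial) a :=
  congr($(f.appLE_map (U := ⊤) (e := fun _ _ => trivial) (homOfLE h).op) a)

theorem kap_res {U W : X.Opens} (h : W ≤ U) (a : Γ(Y', ⊤)) (b : Γ(X, U)) :
    letI := secAlg f U
    letI := secAlg f W
    letI := baseAlg g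
    kap f g W (a ⊗ₜ r h b) = r ((pullback.fst f g).preimage_mono h) (kap f g U (a ⊗ₜ b)) := by
  letI := secAlg f U
  letI := secAlg f W
  letI := baseAlg g
  rw [kap_tmul, kap_tmul, map_mul, algebraMap_res (pullback.snd f g), ← app_r]

/-- A finite part of a family of generators covering a quasi-compact scheme. -/
theorem exists_finite_gens [CompactSpace X] {L : X.Modules} (hL : PicF.IsInvertible L) :
    ∃ G : Gens L, Finite G.ι := by
  obtain ⟨G0⟩ := exists_gens hL
  obtain ⟨F, hF⟩ := isCompact_univ.elim_finite_subcover (fun a => (G0.V a : Set X)) (fun a => (G0.V a).isOpen)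
    fun x _ => Set.mem_iUnion.2 (G0.cover x)
  refine ⟨{ ι := {a // a ∈ F}, V := fun a => G0.V a.1, e := fun a => G0.e a.1,
            cover := fun x => ?_, isGen := fun a => G0.isGen a.1, aff := fun a => G0.aff a.1 },
    (inferInstance : Finite {a // a ∈ F})⟩
  obtain ⟨a, ha, hxa⟩ := Set.mem_iUnion₂.1 (hF (Set.mem_univ x))
  exact ⟨⟨a, ha⟩, hxa⟩

variable [IsAffine Y] [IsAffine Y']

theorem exists_lTensor_eq_mul {A B C : Type u} [CommRing A] [CommRing B] [CommRing C] [Algebra A B] [Algebra A C]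
    (J : Ideal C) (ξ : B ⊗[A] C) (ω : B ⊗[A] (J.restrictScalars A)) :
    ∃ ω', LinearMap.lTensor B (J.restrictScalars A).subtype ω' =
      ξ * LinearMap.lTensor B (J.restrictScalars A).subtype ω := by
  induction ξ using TensorProduct.induction_on with
  | zero => exact ⟨0, by rw [map_zero, zero_mul]⟩
  | add x y hx hy =>
    obtain ⟨u, hu⟩ := hx
    obtain ⟨v, hv⟩ := hy
    exact ⟨u + v, by rw [map_add, hu, hv, add_mul]⟩
  | tmul a m =>
    induction ω using TensorProduct.induction_on with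
    | zero => exact ⟨0, by rw [map_zero, mul_zero]⟩
    | add x y hx hy =>
      obtain ⟨u, hu⟩ := hx
      obtain ⟨v, hv⟩ := hy
      exact ⟨u + v, by rw [map_add, hu, hv, map_add, mul_add]⟩
    | tmul a' j =>
      exact ⟨(a * a') ⊗ₜ ⟨m * j.1, J.mul_mem_left m j.2⟩, by
        rw [LinearMap.lTensor_tmul, LinearMap.lTensor_tmul, Algebra.TensorProduct.tmul_mul_tmul]; rfl⟩

/-- An element of the extended ideal comes from the tensor product with the ideal. -/
theorem exists_kap_eq {U : X.Opens} (hU : IsAffineOpen U) (J : Ideal Γ(X, U))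
    (b : Γ(pullback f g, pullback.fst f g ⁻¹ᵁ U)) (hb : b ∈ J.map ((pullback.fst f g).app U).hom) :
    letI := secAlg f U
    letI := baseAlg g
    ∃ ω : Γ(Y', ⊤) ⊗[Γ(Y, ⊤)] (J.restrictScalars Γ(Y, ⊤)),
      kap f g U (LinearMap.lTensor _ (J.restrictScalars Γ(Y, ⊤)).subtype ω) = b := by
  letI := secAlg f U
  letI := baseAlg g
  induction hb using Submodule.span_induction with
  | mem b hb =>
    obtain ⟨j, hj, rfl⟩ := hb
    exact ⟨1 ⊗ₜ ⟨j, hj⟩, by rw [LinearMap.lTensor_tmul, kap_tmul, map_one, one_mul]; rfl⟩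
  | zero => exact ⟨0, by rw [map_zero, map_zero]⟩
  | add x y _ _ hx hy =>
    obtain ⟨ω, rfl⟩ := hx
    obtain ⟨ω', rfl⟩ := hy
    exact ⟨ω + ω', by rw [map_add, map_add]⟩
  | smul c x _ hx =>
    obtain ⟨ω, rfl⟩ := hx
    obtain ⟨ξ, rfl⟩ := surjective_kap f g hU c
    obtain ⟨ω', h⟩ := exists_lTensor_eq_mul J ξ ω
    exact ⟨ω', by rw [smul_eq_mul, h, map_mul]⟩

/-- A section whose coordinates lie in extended ideals is a combination of sections with coordinates in the
ideals; hence one of them generates below a given point of generation. -/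
theorem exists_section_below [Flat g] [QuasiSeparatedSpace X] {L : X.Modules} (G : Gens L) [Finite G.ι]
    (J : ∀ a, Ideal Γ(X, G.V a))
    (S' : Γ((Scheme.Modules.pullback (pullback.fst f g)).obj L, ⊤))
    (b : ∀ a, Γ(pullback f g, pullback.fst f g ⁻¹ᵁ G.V a))
    (hS' : ∀ a, ((Scheme.Modules.pullback (pullback.fst f g)).obj L).presheaf.map
      (homOfLE (le_top : pullback.fst f g ⁻¹ᵁ G.V a ≤ ⊤)).op S' = b a • OmegaSh.pullSect (pullback.fst f g) L _ (G.e a))
    (hb : ∀ a, b a ∈ (J a).map ((pullback.fst f g).app (G.V a)).hom)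
    (y : ↥(pullback f g)) (hy : y ∈ gen ((Scheme.Modules.pullback (pullback.fst f g)).obj L) S') :
    ∃ (S : Γ(L, ⊤)) (c : ∀ a, Γ(X, G.V a)), pullback.fst f g y ∈ gen L S ∧ (∀ a, c a ∈ J a) ∧
      ∀ a, L.presheaf.map (homOfLE (le_top : G.V a ≤ ⊤)).op S = c a • G.e a := by
  classical
  haveI := Fintype.ofFinite G.ι
  let q := pullback.fst f g
  haveI : IsAffineHom g := isAffineHom_of_isAffine g
  haveI : IsAffineHom q := MorphismProperty.pullback_fst _ _ ‹_›
  letI := fun U => secAlg f U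
  letI := baseAlg g
  haveI : Module.Flat Γ(Y, ⊤) Γ(Y', ⊤) :=
    g.flat_appLE (isAffineOpen_top Y) (isAffineOpen_top Y') fun _ _ => trivial
  have hV : ∀ a c, IsCompact (G.V a ⊓ G.V c : Set X) := fun a c =>
    QuasiSeparatedSpace.inter_isCompact (G.V a : Set X) (G.V c) (G.V a).isOpen (G.aff a).isCompact
      (G.V c).isOpen (G.aff c).isCompact
  choose u hu using fun p : G.ι × G.ι => transition (ei := G.e p.1) (G.isGen p.2)
  let δ : (∀ a, (J a).restrictScalars Γ(Y, ⊤)) →ₗ[Γ(Y, ⊤)] ∀ p : G.ι × G.ι, Γ(X, G.V p.1 ⊓ G.V p.2) :=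
    { toFun := fun c p => r inf_le_left (c p.1).1 * u p - r inf_le_right (c p.2).1
      map_add' := fun c d => funext fun p => by
        show r _ ((c p.1).1 + (d p.1).1) * u p - r _ ((c p.2).1 + (d p.2).1) =
          (r _ (c p.1).1 * u p - r _ (c p.2).1) + (r _ (d p.1).1 * u p - r _ (d p.2).1)
        rw [map_add, map_add]; ring
      map_smul' := fun s c => funext fun p => by
        show r _ ((algebraMap Γ(Y, ⊤) Γ(X, G.V p.1)) s * (c p.1).1) * u p -
            r _ ((algebraMap Γ(Y, ⊤) Γ(X, G.V p.2)) s * (c p.2).1) =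
          (algebraMap Γ(Y, ⊤) Γ(X, G.V p.1 ⊓ G.V p.2)) s * (r _ (c p.1).1 * u p - r _ (c p.2).1)
        rw [map_mul, map_mul, RingHom.algebraMap_toAlgebra, RingHom.algebraMap_toAlgebra,
          RingHom.algebraMap_toAlgebra, algebraMap_res, algebraMap_res]
        ring }
  let π : ∀ a, (∀ a, (J a).restrictScalars Γ(Y, ⊤)) →ₗ[Γ(Y, ⊤)] (J a).restrictScalars Γ(Y, ⊤) :=
    fun a => LinearMap.proj a
  let β : ∀ a, Γ(Y', ⊤) ⊗[Γ(Y, ⊤)] (∀ a, (J a).restrictScalars Γ(Y, ⊤)) → Γ(pullback f g, q ⁻¹ᵁ G.V a) :=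
    fun a ω => kap f g (G.V a) (LinearMap.lTensor _ (((J a).restrictScalars Γ(Y, ⊤)).subtype ∘ₗ π a) ω)
  choose ω₁ hω₁ using fun a => exists_kap_eq f g (G.aff a) (J a) (b a) (hb a)
  let e := TensorProduct.piRight Γ(Y, ⊤) Γ(Y, ⊤) Γ(Y', ⊤) (fun a => (J a).restrictScalars Γ(Y, ⊤))
  have hproj : ∀ ω a, e ω a = LinearMap.lTensor _ (π a) ω := fun ω a => by
    induction ω using TensorProduct.induction_on with
    | zero => rw [map_zero, map_zero]; rfl
    | tmul s m => rfl
    | add x y hx hy => rw [map_add, map_add, Pi.add_apply, hx, hy]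
  let ω := e.symm ω₁
  have hβ : ∀ a, β a ω = b a := fun a => by
    show kap f g _ _ = _
    rw [LinearMap.lTensor_comp, LinearMap.comp_apply, ← hproj, LinearEquiv.apply_symm_apply]
    exact hω₁ a
  have hδ : ∀ ω p, kap f g (G.V p.1 ⊓ G.V p.2) (LinearMap.lTensor _ (LinearMap.proj p ∘ₗ δ) ω) =
      r (q.preimage_mono inf_le_left) (β p.1 ω) * q.app _ (u p) -
        r (q.preimage_mono inf_le_right) (β p.2 ω) := fun ω p => by
    induction ω using TensorProduct.induction_on with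
    | zero => simp [β]
    | add x y hx hy =>
      simp only [β, map_add] at hx hy ⊢
      rw [hx, hy]; ring
    | tmul s c =>
      simp only [β, LinearMap.lTensor_tmul, LinearMap.comp_apply]
      show kap f g _ (s ⊗ₜ (r _ (c p.1).1 * u p - r _ (c p.2).1)) =
        r _ (kap f g _ (s ⊗ₜ (c p.1).1)) * q.app _ (u p) - r _ (kap f g _ (s ⊗ₜ (c p.2).1))
      rw [TensorProduct.tmul_sub, map_sub, ← kap_res f g inf_le_left, ← kap_res f g inf_le_right,
        ]
      simp only [q, kap_tmul, map_mul]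
      ring
  have h0 : LinearMap.lTensor Γ(Y', ⊤) δ ω = 0 := by
    refine (TensorProduct.piRight Γ(Y, ⊤) Γ(Y, ⊤) Γ(Y', ⊤) (fun p : G.ι × G.ι => Γ(X, G.V p.1 ⊓ G.V p.2))).injective
      (funext fun p => injective_kap f g (hV p.1 p.2) ?_)
    have e1 : ∀ z, (TensorProduct.piRight Γ(Y, ⊤) Γ(Y, ⊤) Γ(Y', ⊤)
        (fun p : G.ι × G.ι => Γ(X, G.V p.1 ⊓ G.V p.2))) z p = LinearMap.lTensor _ (LinearMap.proj p) z := fun z => by
      induction z using TensorProduct.induction_on with
      | zero => rw [map_zero, map_zero]; rfl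
      | tmul s m => rfl
      | add x y hx hy => rw [map_add, map_add, Pi.add_apply, hx, hy]
    rw [map_zero, Pi.zero_apply, map_zero, e1, ← LinearMap.comp_apply, ← LinearMap.lTensor_comp, hδ, hβ, hβ,
      sub_eq_zero]
    exact compat_pull G q hS' p.1 p.2 (u p) (hu p)
  have hex : Function.Exact (LinearMap.lTensor Γ(Y', ⊤) (LinearMap.ker δ).subtype) (LinearMap.lTensor Γ(Y', ⊤) δ) :=
    Module.Flat.lTensor_exact Γ(Y', ⊤) (N := LinearMap.ker δ) (N' := ∀ a, (J a).restrictScalars Γ(Y, ⊤))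
      (N'' := ∀ p : G.ι × G.ι, Γ(X, G.V p.1 ⊓ G.V p.2)) (LinearMap.exact_subtype_ker_map δ)
  obtain ⟨η, hη⟩ := (hex ω).1 h0
  obtain ⟨a, ha⟩ := G.cover (q y)
  have hya : y ∈ (pullback f g).basicOpen (β a ω) := by
    rw [hβ]
    exact (mem_gen_iff_coord (G.pull q) hS' (a := a) ha).1 hy
  rw [← hη] at hya
  -- one of the sections of the kernel is a unit at `y`
  have key : ∀ η : Γ(Y', ⊤) ⊗[Γ(Y, ⊤)] (LinearMap.ker δ),
      y ∈ (pullback f g).basicOpen (β a (LinearMap.lTensor _ (LinearMap.ker δ).subtype η)) →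
      ∃ c : LinearMap.ker δ, q y ∈ X.basicOpen (c.1 a).1 := fun η => by
    induction η using TensorProduct.induction_on with
    | zero => intro h; simp [β] at h
    | tmul s c =>
      intro h
      refine ⟨c, ?_⟩
      simp only [β, LinearMap.lTensor_tmul] at h
      erw [kap_tmul, Scheme.basicOpen_mul, ← Scheme.preimage_basicOpen] at h
      exact h.2
    | add x z hx hz =>
      intro h
      have hmem := (pullback f g).mem_basicOpen (β a (LinearMap.lTensor _ (LinearMap.ker δ).subtype (x + z))) y ha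
      have hu := hmem.1 h
      simp only [β, map_add] at hu
      rcases IsLocalRing.isUnit_or_isUnit_of_isUnit_add hu with h' | h'
      · exact hx (((pullback f g).mem_basicOpen _ y ha).2 h')
      · exact hz (((pullback f g).mem_basicOpen _ y ha).2 h')
  obtain ⟨c, hc⟩ := key η hya
  obtain ⟨S, hS⟩ := exists_section G (fun a => (c.1 a).1) fun a d v hv => by
    have e := congrFun (LinearMap.mem_ker.1 c.2) (a, d)
    have hv' : v = u (a, d) :=
      H7Lim.AmpleDescent.coeff_unique ((G.isGen d).res inf_le_right) (hv.symm.trans (hu (a, d)))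
    rw [hv']
    exact sub_eq_zero.1 e
  exact ⟨S, _, (mem_gen_iff_coord G hS ha).2 hc, fun a => (c.1 a).2, hS⟩

/-- Ampleness descends along a faithfully flat morphism of affine schemes. -/
theorem isAmple_of_fpqc [QuasiCompact f] [Flat g] [Surjective g] {L : X.Modules} (hL : PicF.IsInvertible L)
    (hA : CohB1.IsAmple ((Scheme.Modules.pullback (pullback.fst f g)).obj L)) : CohB1.IsAmple L := by
  classical
  haveI : CompactSpace X := QuasiCompact.compactSpace_of_compactSpace f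
  set q := pullback.fst f g
  haveI := compactSpace_of_isAmple hA
  haveI := quasiSeparatedSpace_of_isAmple hA
  haveI : IsAffineHom q := MorphismProperty.pullback_fst _ _ inferInstance
  haveI : Surjective q := MorphismProperty.pullback_fst _ _ ‹_›
  haveI : (pullback f g).IsSeparated := H17.AmpleSep.isSeparated_of_isAmple hA
  haveI : IsSeparated f := by
    refine MorphismProperty.of_pullback_snd_of_descendsAlong (P := @IsSeparated) (Q := H18Descent.fpqc) (g := g)
      ⟨⟨‹_›, ‹_›⟩, inferInstance⟩ ?_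
    haveI : IsSeparated (pullback.snd f g ≫ terminal.from _) := terminal.comp_from (pullback.snd f g) ▸ inferInstance
    exact IsSeparated.of_comp (pullback.snd f g) (terminal.from _)
  haveI : QuasiSeparatedSpace X := quasiSeparatedSpace_of_quasiSeparated f
  obtain ⟨G, hG⟩ := exists_finite_gens hL
  haveI := Fintype.ofFinite G.ι
  rw [isAmple_iff]
  refine ⟨hL, inferInstance, fun x => ?_⟩
  obtain ⟨a₀, ha₀⟩ := G.cover x
  -- finitely many equations of the complement of `G.V a₀`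
  have hF : ∀ a, ∃ F : Finset Γ(X, G.V a), (G.V a : Set X) ∩ G.V a₀ = ⋃ s ∈ F, (X.basicOpen s : Set X) := by
    intro a
    obtain ⟨F, hF⟩ := (QuasiSeparatedSpace.inter_isCompact (G.V a : Set X) (G.V a₀) (G.V a).isOpen (G.aff a).isCompact
      (G.V a₀).isOpen (G.aff a₀).isCompact).elim_finite_subcover
      (fun s : {s : Γ(X, G.V a) // X.basicOpen s ≤ G.V a₀} => (X.basicOpen s.1 : Set X))
      (fun s => (X.basicOpen s.1).isOpen) fun z hz => by
        obtain ⟨s, hs, hzs⟩ := (G.aff a).exists_basicOpen_le (V := G.V a₀) ⟨z, hz.2⟩ hz.1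
        exact Set.mem_iUnion.2 ⟨⟨s, hs⟩, hzs⟩
    refine ⟨F.image Subtype.val, Set.Subset.antisymm (fun z hz => ?_) ?_⟩
    · obtain ⟨s, hs, hzs⟩ := Set.mem_iUnion₂.1 (hF hz)
      exact Set.mem_iUnion₂.2 ⟨s.1, Finset.mem_image_of_mem _ hs, hzs⟩
    · refine Set.iUnion₂_subset fun s hs => ?_
      obtain ⟨s, -, rfl⟩ := Finset.mem_image.1 hs
      exact fun z hz => ⟨X.basicOpen_le s.1 hz, s.2 hz⟩
  choose F hF using hF
  let J : ∀ a, Ideal Γ(X, G.V a) := fun a => Ideal.span (F a : Set Γ(X, G.V a))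
  obtain ⟨x', hx'⟩ := q.surjective x
  obtain ⟨k, s', hk, hxs, hsU, -⟩ := exists_affine_gen_le hA (U := q ⁻¹ᵁ G.V a₀) (x := x')
    (show q x' ∈ G.V a₀ by rw [hx']; exact ha₀)
  have hM := isInvertible_tensorPow hL k
  obtain ⟨φ⟩ := exists_iso_pullback_tensorPow q hL k
  obtain ⟨b, hb⟩ := exists_coords ((G.pow k).pull q) (φ.inv.app ⊤ s')
  have hgent : gen _ (φ.inv.app ⊤ s') = gen _ s' := gen_iso φ.inv s'
  have hbJ : ∀ a, ∃ n, b a ^ n ∈ (J a).map (q.app (G.V a)).hom := fun a => by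
    show b a ∈ ((J a).map (q.app (G.V a)).hom).radical
    rw [Ideal.radical_eq_sInf, Submodule.mem_sInf]
    rintro P ⟨hJP, hP⟩
    by_contra hbP
    have hV' := (G.aff a).preimage q
    let y := hV'.fromSpec ⟨P, hP⟩
    have hyb : y ∈ (pullback f g).basicOpen (b a) := by
      show (⟨P, hP⟩ : PrimeSpectrum _) ∈ hV'.fromSpec ⁻¹ᵁ (pullback f g).basicOpen (b a)
      rw [hV'.fromSpec_preimage_basicOpen]; exact hbP
    have hyV : q y ∈ G.V a := (pullback f g).basicOpen_le (b a) hyb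
    have hy₀ : q y ∈ G.V a₀ :=
      hsU (hgent.le ((mem_gen_iff_coord ((G.pow k).pull q) hb (a := a) hyV).2 hyb))
    obtain ⟨s, hs, hys⟩ := Set.mem_iUnion₂.1 ((hF a).le ⟨hyV, hy₀⟩)
    have h2 : (⟨P, hP⟩ : PrimeSpectrum _) ∈ hV'.fromSpec ⁻¹ᵁ (q ⁻¹ᵁ X.basicOpen s) := hys
    rw [Scheme.preimage_basicOpen, hV'.fromSpec_preimage_basicOpen] at h2
    exact h2 (hJP (Ideal.mem_map_of_mem _ (Ideal.subset_span hs)))
  choose n hn using hbJ
  let m := Finset.univ.sup n + 1
  obtain ⟨ψ⟩ := exists_iso_pullback_tensorPow q hM m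
  have hv : ∀ a, ∃ v, ψ.inv.app (q ⁻¹ᵁ G.V a) (spow (OmegaSh.pullSect q _ _ ((G.pow k).e a)) m) =
      v • OmegaSh.pullSect q _ _ (((G.pow k).pow m).e a) := fun a =>
    exists_coeff ((((G.pow k).pow m).pull q).isGen a) _
  choose v hv using hv
  haveI : Finite ((G.pow k).pow m).ι := hG
  have hgenT : gen _ (ψ.inv.app ⊤ (spow (φ.inv.app ⊤ s') m)) = gen _ s' := by
    rw [gen_iso ψ.inv, gen_spow (isInvertible_pullback q hM) _ m (Nat.succ_pos _), hgent]
  obtain ⟨S, c, hxS, hc, hS⟩ := exists_section_below f g ((G.pow k).pow m) J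
    (ψ.inv.app ⊤ (spow (φ.inv.app ⊤ s') m)) (fun a => b a ^ m * v a) (fun a => by
      rw [← app_map_apply ψ.inv, spow_res]
      erw [hb a, spow_smul, Scheme.Modules.Hom.app_smul, hv a, smul_smul])
    (fun a => Ideal.mul_mem_right _ _ (Ideal.pow_mem_of_pow_mem _ (hn a)
      ((Finset.le_sup (Finset.mem_univ a)).trans (Nat.le_succ _))))
    x' (hgenT.ge hxs)
  have hle : gen _ S ≤ G.V a₀ := fun y hy => by
    obtain ⟨a, ha⟩ := G.cover y
    have hyc := (mem_gen_iff_coord ((G.pow k).pow m) hS (a := a) ha).1 hy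
    by_contra hy₀
    refine (X.mem_basicOpen (c a) y ha).1 hyc |> fun hu => ?_
    have hJ : J a ≤ (IsLocalRing.maximalIdeal _).comap (X.presheaf.germ (G.V a) y ha).hom :=
      Ideal.span_le.2 fun s hs hsu => hy₀ (((hF a).ge (Set.mem_iUnion₂.2
        ⟨s, hs, (X.mem_basicOpen s y ha).2 hsu⟩)).2)
    exact hJ (hc a) hu
  obtain ⟨μ, -⟩ := exists_iso_mul hL k m
  refine ⟨k * m, μ.hom.app ⊤ S, Nat.mul_pos hk (Nat.succ_pos _), ?_, ?_⟩
  · rw [gen_iso]; rwa [hx'] at hxS
  · rw [gen_iso, ← inf_eq_left.2 hle]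
    exact isAffineOpen_gen_inf (G.aff a₀) (((G.pow k).pow m).isGen a₀) S

end Groth.Agent.H06FpqcAmple
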