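import Mathlib

/-! Sections of the base change of a scheme by a flat morphism of affine schemes. -/

set_option autoImplicit false
set_option backward.isDefEq.respectTransparency false
set_option linter.style.haveILetI false
noncomputable section
universe u
open CategoryTheory CategoryTheory.Limits AlgebraicGeometry Opposite TopologicalSpace
open scoped TensorProduct

namespace Groth.Agent.H06FpqcAmple

variable {X Y Y' : Scheme.{u}} (f : X ⟶ Y) (g : Y' ⟶ Y)

/-- `Γ(X, U)` over the global functions of the base. -/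
abbrev secAlg (U : X.Opens) : Algebra Γ(Y, ⊤) Γ(X, U) := (f.appLE ⊤ U fun _ _ => trivial).hom.toAlgebra

/-- The global functions of the new base over those of the base. -/
abbrev baseAlg : Algebra Γ(Y, ⊤) Γ(Y', ⊤) := (g.appLE ⊤ ⊤ fun _ _ => trivial).hom.toAlgebra

/-- The canonical map from the tensor product to the sections of the base change. -/
def kap (U : X.Opens) :
    letI := secAlg f U
    letI := baseAlg g
    Γ(Y', ⊤) ⊗[Γ(Y, ⊤)] Γ(X, U) →+* Γ(pullback f g, pullback.fst f g ⁻¹ᵁ U) :=
  letI := secAlg f U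
  letI := baseAlg g
  ((CommRingCat.isPushout_tensorProduct Γ(Y, ⊤) Γ(Y', ⊤) Γ(X, U)).flip.isoPushout.hom ≫
    pushoutSection (IsPullback.of_hasPullback f g) (US := ⊤) (UT := ⊤) (UX := U)
      (UY := pullback.fst f g ⁻¹ᵁ U) (fun _ _ => trivial) (fun _ _ => trivial)
      (Eq.symm (inf_eq_left.2 fun _ _ => trivial))).hom

theorem kap_tmul (U : X.Opens) (a : Γ(Y', ⊤)) (b : Γ(X, U)) :
    letI := secAlg f U
    letI := baseAlg g
    kap f g U (a ⊗ₜ b) =
      (pullback.snd f g).appLE ⊤ (pullback.fst f g ⁻¹ᵁ U) (fun _ _ => trivial) a * (pullback.fst f g).app U b := by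
  letI := secAlg f U
  letI := baseAlg g
  have hp := (CommRingCat.isPushout_tensorProduct Γ(Y, ⊤) Γ(Y', ⊤) Γ(X, U)).flip
  have h1 : kap f g U (1 ⊗ₜ b) = (pullback.fst f g).app U b := by
    rw [Scheme.Hom.app_eq_appLE]
    refine Eq.trans (congr($(congrArg (· ≫ pushoutSection (IsPullback.of_hasPullback f g) (US := ⊤) (UT := ⊤)
      (UX := U) (UY := pullback.fst f g ⁻¹ᵁ U) (fun _ _ => trivial) (fun _ _ => trivial)
      (Eq.symm (inf_eq_left.2 fun _ _ => trivial))) hp.inl_isoPushout_hom) b)) ?_
    exact DFunLike.congr_fun (congrArg CommRingCat.Hom.hom (pushout.inl_desc _ _ _)) b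
  have h2 : kap f g U (a ⊗ₜ 1) =
      (pullback.snd f g).appLE ⊤ (pullback.fst f g ⁻¹ᵁ U) (fun _ _ => trivial) a := by
    refine Eq.trans (congr($(congrArg (· ≫ pushoutSection (IsPullback.of_hasPullback f g) (US := ⊤) (UT := ⊤)
      (UX := U) (UY := pullback.fst f g ⁻¹ᵁ U) (fun _ _ => trivial) (fun _ _ => trivial)
      (Eq.symm (inf_eq_left.2 fun _ _ => trivial))) hp.inr_isoPushout_hom) a)) ?_
    exact DFunLike.congr_fun (congrArg CommRingCat.Hom.hom (pushout.inr_desc _ _ _)) a
  rw [← h1, ← h2, ← map_mul, Algebra.TensorProduct.tmul_mul_tmul, mul_one, one_mul]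

variable [IsAffine Y] [IsAffine Y']

theorem surjective_kap {U : X.Opens} (hU : IsAffineOpen U) : Function.Surjective (kap f g U) := by
  letI := secAlg f U
  letI := baseAlg g
  haveI := isIso_pushoutSection_of_isAffineOpen (IsPullback.of_hasPullback f g) (US := ⊤) (UT := ⊤) (UX := U)
    (UY := pullback.fst f g ⁻¹ᵁ U) (fun _ _ => trivial) (fun _ _ => trivial)
    (Eq.symm (inf_eq_left.2 fun _ _ => trivial)) (isAffineOpen_top Y) (isAffineOpen_top Y') hU
  exact (ConcreteCategory.bijective_of_isIso (_ ≫ _)).2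

theorem injective_kap [Flat g] {U : X.Opens} (hU : IsCompact (U : Set X)) : Function.Injective (kap f g U) := by
  letI := secAlg f U
  letI := baseAlg g
  haveI := mono_pushoutSection_of_isCompact_of_flat_right (IsPullback.of_hasPullback f g) (US := ⊤) (UT := ⊤)
    (UX := U) (UY := pullback.fst f g ⁻¹ᵁ U) (fun _ _ => trivial) (fun _ _ => trivial)
    (Eq.symm (inf_eq_left.2 fun _ _ => trivial)) (isAffineOpen_top Y) (isAffineOpen_top Y') hU
  exact ConcreteCategory.injective_of_mono_of_preservesPullback (_ ≫ _)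

end Groth.Agent.H06FpqcAmple
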